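import Groth.Agent.Lib.ProjRegular
import Groth.Agent.Lib.ProjRegularPn
import Groth.Agent.Lib.RegEpiGen
import Groth.Agent.S3572
import Groth.Agent.AmpleVan.Iter
import Groth.Agent.AmpleVan.Tower
import Groth.Agent.ResolveX.MVOne
import Groth.Agent.ASB.LinProj
import Groth.Agent.HilbSnap.Basic
import Groth.Agent.TauNum.Bounded
import Groth.Agent.CurveCohLib.Proper

/-!
# Surjectivity of multiplication by the sections of a generated line bundle
-/

set_option autoImplicit false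
set_option linter.style.haveILetI false
set_option linter.unusedSectionVars false
set_option backward.isDefEq.respectTransparency false
set_option backward.isDefEq.respectTransparency.types false
set_option maxHeartbeats 1000000

universe u

open CategoryTheory CategoryTheory.Limits AlgebraicGeometry TopologicalSpace Opposite MonoidalCategory
open Groth.Agent.H23.PicMul

noncomputable section

namespace Groth.Agent.MulSect

open Groth.Agent Groth.Agent.KFlatLib Groth.Agent.PnCoh.Finite Groth.Agent.ProjShift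

variable {X : Scheme.{u}}

theorem map_tmul_right {M N N' : X.Modules} (ψ : N ⟶ N') {U : X.Opens} (a : Γ(M, U)) (b : Γ(N, U)) :
    ((DCoh.tensorBi.obj M).map ψ).app U (InvX.tmul a b) = InvX.tmul a (ψ.app U b) :=
  (congrArg (fun φ : DCoh.toP.obj M ⊗ DCoh.toP.obj N ⟶ DCoh.toP.obj ((DCoh.tensorBi.obj M).obj N') =>
    φ.app (op U) (tm a b)) (unitShP_naturality (DCoh.toP.obj M ◁ DCoh.toP.map ψ))).symm

/-- A basis of the sections generates. -/
theorem exists_generating (k : Type u) [Field k] [X.Over (Spec (CommRingCat.of k))]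
    [IsProper (X ↘ Spec (CommRingCat.of k))] {L : X.Modules} (hL : PicF.IsInvertible L)
    (hgg : Curv2.IsGloballyGenerated L) :
    ∃ s : Fin (Module.finrank k (Coh.HH X L 0)) → Γ(L, ⊤), ProjUP.GeneratedBy L s := by
  haveI := CurveCohLib.isNoetherian_of_proper (k := k) (X := X)
  haveI := CurveCohLib.finite_HH (k := k) (AmpleVan.isCoh_invertible hL) 0
  let e := LinearEquiv.ofBijective _ (RegEpi.evalOneLin_bijective k L)
  let B := Module.finBasis k (Coh.HH X L 0)
  obtain ⟨ι, t, ht⟩ := ResolveX.exists_generatedBy hgg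
  let g : k → Γ(X, ⊤) := fun a => Coh.toGlobal (X ↘ Spec (CommRingCat.of k)) a
  let c := fun l => B.repr (e (InvX.ofSect (t l)))
  refine ⟨fun i => InvX.one (e.symm (B i)), ASB.LinProj.generatedBy_of_combination _ t
    (fun l i => g (c l i)) (fun l => ?_) ht⟩
  have h : InvX.ofSect (t l) = ∑ i, c l i • e.symm (B i) := by
    apply e.injective
    rw [map_sum]
    refine (B.sum_repr (e (InvX.ofSect (t l)))).symm.trans (Finset.sum_congr rfl fun i _ => ?_)
    rw [map_smul, e.apply_symm_apply]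
  let ev : (Coh.structureModule X ⟶ L) →+ Γ(L, ⊤) := AddMonoidHom.mk' InvX.one fun _ _ => rfl
  calc t l = ev (InvX.ofSect (t l)) := (InvX.one_ofSect _).symm
    _ = ∑ i, ev (c l i • e.symm (B i)) := by rw [h, map_sum]
    _ = _ := Finset.sum_congr rfl fun i _ => by
      refine (KLin.smul_app_apply _ _ _ _).trans ?_
      show X.presheaf.map (homOfLE (le_top : (⊤ : X.Opens) ≤ ⊤)).op (g (c l i)) • _ = g (c l i) • _
      rw [show (homOfLE (le_top : (⊤ : X.Opens) ≤ ⊤)).op = 𝟙 _ from rfl, X.presheaf.map_id]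
      rfl

variable {k : Type u} [Field k] {n : ℕ}

/-- Pulled back multiplication is bijective on stalks where the coordinate does not vanish. -/
theorem bijective_stalkAb_pullback {R A : Type u} [CommRing R] [CommRing A] [Algebra R A]
    {𝒜 : ℕ → Submodule R A} [GradedAlgebra 𝒜] {a : A} (ha : a ∈ 𝒜 1) (φ : X ⟶ Proj 𝒜) {y : X}
    (hy : φ.base y ∈ D 𝒜 a) (d : ℤ) :
    Function.Bijective ((stalkAb y).map ((Scheme.Modules.pullback φ).map (xHom ha d))) := by
  haveI : IsIso ((stalkP (φ.base y)).map (DCoh.toP.map (xHom ha d))) :=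
    (ConcreteCategory.isIso_iff_bijective _).2 (bijective_stalk ha hy d)
  haveI : IsIso ((DerSch.stalkFunctor (Proj 𝒜) (φ.base y)).map (xHom ha d)) :=
    (NatIso.isIso_map_iff (stalkToPIso (φ.base y)) (xHom ha d)).2 this
  haveI : IsIso ((Scheme.Modules.pullback φ ⋙ DerSch.stalkFunctor X y).map (xHom ha d)) :=
    (NatIso.isIso_map_iff (stalkPullbackIso φ y) (xHom ha d)).2
      (Functor.map_isIso (ModuleCat.extendScalars (φ.stalkMap y).hom)
        ((DerSch.stalkFunctor (Proj 𝒜) (φ.base y)).map (xHom ha d)))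
  exact (ConcreteCategory.isIso_iff_bijective _).1
    (Functor.map_isIso (forget₂ (ModuleCat (X.presheaf.stalk y)) AddCommGrpCat)
      ((Scheme.Modules.pullback φ ⋙ DerSch.stalkFunctor X y).map (xHom ha d)))

/-- A map out of a line bundle into its twist is tensoring with a section. -/
theorem exists_section_map {P L : X.Modules} (hP : PicF.IsInvertible P) (ψ : P ⟶ CohB1.tensorMod P L) :
    ∃ σ : Γ(L, ⊤), ∀ t : Γ(P, ⊤), ψ.app ⊤ t = InvX.tmul t σ := by
  let F := (DCoh.tensorBi (X := X)).obj P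
  haveI := AmpleVan.isEquivalence_tw hP
  haveI : F.IsEquivalence := Functor.isEquivalence_of_iso
    (show AmpleVan.tw P ≅ F from ((KFlatLib.tensorBiFlipIso X).app P))
  let u : F.obj (Coh.structureModule X) ≅ P := (AmpleVan.twUnit (X := X)).app P
  let σ' : Coh.structureModule X ⟶ L := F.preimage (u.hom ≫ ψ)
  refine ⟨σ'.app ⊤ (1 : Γ(X, ⊤)), fun t => ?_⟩
  rw [show ψ = u.inv ≫ F.map σ' by rw [F.map_preimage, u.inv_hom_id_assoc]]
  show (F.map σ').app ⊤ ((AmpleVan.twUnit.inv.app P).app ⊤ t) = _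
  rw [AmpleVan.unit_inv_app, map_tmul_right]

theorem subsingleton_sections_of_isEmpty (hX : IsEmpty X) (F : X.Modules) (U : X.Opens) : Subsingleton Γ(F, U) :=
  ⟨fun a b => AModX.eq_of_locally _ _ fun z _ => hX.elim z⟩

variable (k) in
theorem surjective_mul [X.Over (Spec (CommRingCat.of k))] [IsProper (X ↘ Spec (CommRingCat.of k))]
    {L : X.Modules} (hL : PicF.IsInvertible L) (hgg : Curv2.IsGloballyGenerated L) (M : X.Modules)
    (hM : ClSub.IsInverseOf M L) (b : ℕ)
    (hvan₁ : ∀ q : ℕ, 1 ≤ q → q ≤ b → q < Module.finrank k (Coh.HH X L 0) →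
      Subsingleton (Coh.HH X (CohB1.tensorPow L (b - q)) q))
    (hvan₂ : ∀ q : ℕ, b < q → q < Module.finrank k (Coh.HH X L 0) →
      Subsingleton (Coh.HH X (CohB1.tensorPow M (q - b)) q)) :
    Function.Surjective ((toSheafify (Opens.grothendieckTopology X)
      (CohB1.tensorPre (CohB1.tensorPow L b) L).presheaf).app (Opposite.op ⊤)) := by
  haveI := CurveCohLib.isNoetherian_of_proper (k := k) (X := X)
  obtain ⟨s, hs⟩ := exists_generating k hL hgg
  let P := CohB1.tensorPow L b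
  let η := (KFlatLib.unitShP (CohB1.toPMod P ⊗ CohB1.toPMod L)).app (op ⊤)
  suffices h : ∀ z : Γ(CohB1.tensorMod P L, ⊤), z ∈ Set.range η from h
  rcases hr : Module.finrank k (Coh.HH X L 0) with _ | n
  · haveI hX : IsEmpty X := ⟨fun x => by
      obtain ⟨W, hxW, e, he⟩ := InvX.exists_frame hL x
      have hemp : (Set.range fun i => (L.presheaf.germ ⊤ x trivial).hom (s i)) = ∅ :=
        Set.range_eq_empty_iff.2 ⟨fun i => Fin.elim0 (Fin.cast hr i)⟩
      have h2 := hs x
      rw [hemp, Submodule.span_empty] at h2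
      have hb := he.germ_bijective hxW
      haveI : Subsingleton (L.presheaf.stalk x) := (Submodule.subsingleton_iff (X.presheaf.stalk x)).1
        (subsingleton_iff_bot_eq_top.1 h2)
      exact one_ne_zero (α := X.presheaf.stalk x) (hb.1 (Subsingleton.elim _ _))⟩
    intro z
    exact ⟨0, (subsingleton_sections_of_isEmpty hX (CohB1.tensorMod P L) ⊤).elim _ _⟩
  obtain ⟨φ, -, τ, -⟩ := S3572.result n (X ↘ Spec (CommRingCat.of k)) L hL (fun i => s (Fin.cast hr.symm i))
    (fun x => (hs x).ge.antisymm' le_top |>.symm.trans (by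
      congr 1
      exact ((Fin.castOrderIso hr.symm).toEquiv.surjective.range_comp _).symm) |>.symm)
  let T : ℤ → X.Modules := fun d => (Scheme.Modules.pullback φ).obj (Twist.twist (CohB1.polyGrading n k) d)
  let x : ULift.{u} (Fin (n + 1)) → ∀ d : ℤ, T (d - 1) ⟶ T d :=
    fun j d => (Scheme.Modules.pullback φ).map (xHom (ProjRegular.coords_mem j) d)
  have hx : ∀ i j d, x i (d - 1) ≫ x j d = x j (d - 1) ≫ x i d := fun i j d => by
    rw [← Functor.map_comp, ← Functor.map_comp, xHom_comm (ProjRegular.coords_mem i) (ProjRegular.coords_mem j) d]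
  let l := (Finset.univ : Finset (ULift.{u} (Fin (n + 1)))).toList
  have hcov : ∀ y : X, ∃ j ∈ l, ∀ d, Function.Bijective ((stalkAb y).map (x j d)) := fun y => by
    obtain ⟨j, hj⟩ := Opens.mem_iSup.1 ((ProjRegular.coords_cover (k := k) (n := n)).ge
      (trivial : φ.base y ∈ (⊤ : (Proj (CohB1.polyGrading n k)).Opens)))
    exact ⟨j, Finset.mem_toList.2 (Finset.mem_univ j), fun d => bijective_stalkAb_pullback _ φ hj d⟩
  -- classes
  have hT : ∀ e : ℕ, PicF.cl (T e) = PicF.cl L ^ e := fun e => by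
    obtain ⟨p⟩ := HilbSnap.pullback_tensorPow φ (Twist.twistProjSpace n k 1) e
    obtain ⟨q⟩ : Nonempty (Twist.twistProjSpace n k (e : ℤ) ≅ CohB1.tensorPow (Twist.twistProjSpace n k 1) e) :=
      cl_eq_iff.1 (by rw [cl_tensorPow, TauNum.cl_twist_natCast])
    rw [← cl_eq_iff.2 ⟨τ⟩, ← cl_tensorPow]
    exact cl_eq_iff.2 ⟨(Scheme.Modules.pullback φ).mapIso q ≪≫ p⟩
  have hT' : ∀ e : ℕ, PicF.cl (T (-(e : ℤ))) = PicF.cl M ^ e := fun e => by
    obtain ⟨p⟩ := H23.PicMul.pull φ (Twist.twistProjSpace n k (e : ℤ)) (Twist.twistProjSpace n k (-(e : ℤ)))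
    obtain ⟨q⟩ : Nonempty (CohB1.tensorMod (Twist.twistProjSpace n k (e : ℤ))
        (Twist.twistProjSpace n k (-(e : ℤ))) ≅ Coh.structureModule _) := cl_eq_iff.1 (by
      rw [cl_tensor, TauNum.cl_twist_add, add_neg_cancel, ← one_def]
      exact (TauNum.cl_twist_natCast (k := k) (n := n) 0).trans (pow_zero _))
    obtain ⟨u⟩ := PicClLib.nonempty_pullback_structureModule φ
    have h1 : PicF.cl (T e) * PicF.cl (T (-(e : ℤ))) = 1 := by
      rw [← cl_tensor, one_def]
      exact cl_eq_iff.2 ⟨p.symm ≪≫ (Scheme.Modules.pullback φ).mapIso q ≪≫ u⟩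
    have h2 : PicF.cl L ^ e * PicF.cl M ^ e = 1 := by
      rw [← mul_pow, mul_comm, ← cl_tensor, cl_eq_iff.2 hM, ← one_def, one_pow]
    rw [hT e] at h1
    exact ((H23.PicMul.isUnit_cl hL).pow e).mul_left_cancel (h1.trans h2.symm)
  obtain ⟨θ⟩ : Nonempty (T ((b : ℤ) + 1) ≅ CohB1.tensorMod P L) := cl_eq_iff.1 (by
    rw [cl_tensor, cl_tensorPow, ← pow_succ, ← hT (b + 1)]
    push_cast
    rfl)
  obtain ⟨θ₀⟩ : Nonempty (T ((b : ℤ) + 1 - 1) ≅ P) := cl_eq_iff.1 (by
    rw [cl_tensorPow, ← hT b, add_sub_cancel_right])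
  have hsurj := KoszulChop.surjective_dd_zero T x hx l hcov ((b : ℤ) + 1) fun p => by
    by_cases hp : l.length < p + 2
    · exact Euler.subsingleton_HH_of_isZero (KoszulChop.isZero_obj T l _ _ hp) _
    have hl : l.length = n + 1 := by simp [l]
    refine KoszulChop.subsingleton_HH_obj T _ _ _ _ ?_
    by_cases hq : p + 1 ≤ b
    · obtain ⟨i⟩ : Nonempty (CohB1.tensorPow L (b - (p + 1)) ≅ T ((b : ℤ) + 1 - ((p + 2 : ℕ) : ℤ))) :=
        cl_eq_iff.1 (by
          rw [cl_tensorPow, show (b : ℤ) + 1 - ((p + 2 : ℕ) : ℤ) = ((b - (p + 1) : ℕ) : ℤ) by omega, hT])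
      exact QCoh.subsingleton_HH_of_iso i _ (hvan₁ (p + 1) (by omega) hq (by omega))
    · obtain ⟨i⟩ : Nonempty (CohB1.tensorPow M (p + 1 - b) ≅ T ((b : ℤ) + 1 - ((p + 2 : ℕ) : ℤ))) :=
        cl_eq_iff.1 (by
          rw [cl_tensorPow, show (b : ℤ) + 1 - ((p + 2 : ℕ) : ℤ) = -((p + 1 - b : ℕ) : ℤ) by omega, hT'])
      exact QCoh.subsingleton_HH_of_iso i _ (hvan₂ (p + 1) (by omega) (by omega))
  haveI := KoszulChop.isIso_e0 T l ((b : ℤ) + 1)
  let G := ProjRegular.secTop X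
  let S : AddSubgroup (G.obj (T ((b : ℤ) + 1))) :=
    (AddMonoidHom.range η.hom.toAddMonoidHom).comap (θ.hom.app ⊤).hom
  have hS : ∀ j ∈ l, ∀ t, G.map (x j ((b : ℤ) + 1)) t ∈ S := fun j _ t => by
    obtain ⟨σ, hσ⟩ := exists_section_map (InvX.isInvertible_tensorPow hL b)
      (θ₀.inv ≫ x j ((b : ℤ) + 1) ≫ θ.hom)
    refine ⟨KFlatLib.tm (P := CohB1.toPMod P) (Q := CohB1.toPMod L) (θ₀.hom.app ⊤ t) σ,
      (hσ (θ₀.hom.app ⊤ t)).symm.trans ?_⟩
    show θ.hom.app ⊤ ((x j ((b : ℤ) + 1)).app ⊤ (θ₀.inv.app ⊤ (θ₀.hom.app ⊤ t))) = _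
    rw [show θ₀.inv.app ⊤ (θ₀.hom.app ⊤ t) = t from congr(($(θ₀.hom_inv_id)).app ⊤ t)]
    rfl
  intro z
  obtain ⟨w, hw⟩ := hsurj ((inv (KoszulChop.e0 T l ((b : ℤ) + 1))).app ⊤ (θ.inv.app ⊤ z))
  have hmem := KoszulChop.dd_zero_mem T x G l ((b : ℤ) + 1) S hS w
  rw [show G.map (KoszulChop.dd T x l ((b : ℤ) + 1) 0 ≫ KoszulChop.e0 T l ((b : ℤ) + 1)) w = θ.inv.app ⊤ z from
    (congrArg ((KoszulChop.e0 T l ((b : ℤ) + 1)).app ⊤) hw).trans
      (congr(($(IsIso.inv_hom_id (KoszulChop.e0 T l ((b : ℤ) + 1)))).app ⊤ (θ.inv.app ⊤ z)))] at hmem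
  obtain ⟨v, hv⟩ := hmem
  exact ⟨v, hv.trans (congr(($(θ.inv_hom_id)).app ⊤ z))⟩

end Groth.Agent.MulSect
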