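import Groth.Agent.MulSect.Main
import Groth.Agent.Lib.RegDescent
import Groth.Agent.AmpleDev.Basic
import Groth.Agent.ExistEasy.PP.HatLemmas
import Groth.Agent.KFlatLib.Scheme.ProjModule
import Groth.Agent.PnCoh.Chow.Proper

/-!
# Multiplication by powers of a generated line bundle is eventually surjective
-/

set_option autoImplicit false
set_option linter.style.haveILetI false
set_option linter.unusedSectionVars false
set_option backward.isDefEq.respectTransparency false
set_option backward.isDefEq.respectTransparency.types false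
set_option maxHeartbeats 1000000

universe u

open CategoryTheory CategoryTheory.Limits AlgebraicGeometry TopologicalSpace Opposite MonoidalCategory
open Groth.Agent.H23.PicMul

noncomputable section

namespace Groth.Agent.MulSect

open Groth.Agent Groth.Agent.KFlatLib Groth.Agent.PnCoh.Finite Groth.Agent.ProjShift Groth.Agent.RegEpi

/-- The projection map is invertible at an invertible module. -/
theorem isIso_projMod_invertible {X Y : Scheme.{u}} (f : X ⟶ Y) (M : X.Modules) {N : Y.Modules}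
    (hN : PicF.IsInvertible N) : IsIso (projMod f M N) := by
  let F₁ := DCoh.tensorBi.flip.obj N
  let F₂ := DCoh.tensorBi.flip.obj ((Scheme.Modules.pullback f).obj N)
  haveI : F₁.IsEquivalence := AmpleVan.isEquivalence_tw hN
  haveI : F₂.IsEquivalence := AmpleVan.isEquivalence_tw (PicClLib.isInvertible_pullback f hN)
  let α : F₁ ⋙ Scheme.Modules.pullback f ≅ Scheme.Modules.pullback f ⋙ F₂ :=
    NatIso.ofComponents (fun L => ((pullTensorBiIso f).app L).app N)
      (fun φ => NatTrans.congr_app ((pullTensorBiIso f).hom.naturality φ) _)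
  exact isIso_mate (Scheme.Modules.pullbackPushforwardAdjunction f) α M

variable {k : Type u} [Field k] {X : Scheme.{u}} [X.Over (Spec (CommRingCat.of k))]
  [IsProper (X ↘ Spec (CommRingCat.of k))]

theorem generatedBy_cons {L : X.Modules} {r : ℕ} {s : Fin r → Γ(L, ⊤)} (hs : ProjUP.GeneratedBy L s) :
    ProjUP.GeneratedBy L (Fin.cons 0 s) := fun x => eq_top_iff.2 ((hs x).ge.trans (Submodule.span_mono (by
  rintro _ ⟨i, rfl⟩
  exact ⟨i.succ, by simp only [Fin.cons_succ]⟩)))

include k in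
theorem eventually_surjective_mul {L : X.Modules} (hL : PicF.IsInvertible L) (hgg : Curv2.IsGloballyGenerated L)
    {F : X.Modules} (hF : Coh.IsCoh F) :
    ∃ m₀ : ℕ, 0 < m₀ ∧ ∀ a b : ℕ, m₀ ≤ a → Function.Surjective ((toSheafify (Opens.grothendieckTopology X)
      (CohB1.tensorPre (CohB1.tensorMod F (CohB1.tensorPow L a)) (CohB1.tensorPow L b)).presheaf).app
        (Opposite.op ⊤)) := by
  classical
  haveI := CurveCohLib.isNoetherian_of_proper (k := k) (X := X)
  obtain ⟨n, s, hs⟩ : ∃ (n : ℕ) (s : Fin n → Γ(L, ⊤)), ProjUP.GeneratedBy L s := ⟨_, exists_generating k hL hgg⟩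
  obtain ⟨φ, hφ, τ, -⟩ := S3572.result n (X ↘ Spec (CommRingCat.of k)) L hL (Fin.cons 0 s) (generatedBy_cons hs)
  let P := Proj (CohB1.polyGrading n k)
  letI : P.Over (Spec (CommRingCat.of k)) := ⟨CohB1.ProjSpace.toSpec n k⟩
  haveI : IsProper (CohB1.ProjSpace.toSpec n k) := PnCoh.Chow.isProper_toSpec n k
  haveI : IsProper φ := by
    haveI : IsProper (φ ≫ CohB1.ProjSpace.toSpec n k) := by rw [hφ]; infer_instance
    exact IsProper.of_comp φ (CohB1.ProjSpace.toSpec n k)
  haveI : IsNoetherian P := Proj16.isNoetherian_proj _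
  haveI : IsLocallyNoetherian (CohB1.ProjSpace n k) := inferInstanceAs (IsLocallyNoetherian P)
  let T : ℤ → X.Modules := fun d => (Scheme.Modules.pullback φ).obj (Twist.twist (CohB1.polyGrading n k) d)
  let x : ULift.{u} (Fin (n + 1)) → ∀ d : ℤ, T (d - 1) ⟶ T d :=
    fun j d => (Scheme.Modules.pullback φ).map (xHom (ProjRegular.coords_mem j) d)
  have hT : ∀ e : ℕ, PicF.cl (T e) = PicF.cl L ^ e := fun e => by
    obtain ⟨p⟩ := HilbSnap.pullback_tensorPow φ (Twist.twistProjSpace n k 1) e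
    obtain ⟨q⟩ : Nonempty (Twist.twistProjSpace n k (e : ℤ) ≅ CohB1.tensorPow (Twist.twistProjSpace n k 1) e) :=
      cl_eq_iff.1 (by rw [cl_tensorPow, TauNum.cl_twist_natCast])
    rw [← cl_eq_iff.2 ⟨τ⟩, ← cl_tensorPow]
    exact cl_eq_iff.2 ⟨(Scheme.Modules.pullback φ).mapIso q ≪≫ p⟩
  -- vanishing on projective space
  have hG₀ : Coh.IsCoh ((Coh.push φ).obj F) := ExistEasy.isCoh_pushforward_proper φ hF
  choose d₀ hd₀ using fun i : ℕ => RegDescent.exists_vanishing_twF (k := k) (n := n) hG₀ (i + 1) (Nat.succ_pos i)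
  obtain ⟨D, hD⟩ := Finset.exists_le (((Finset.range (n + 2)).image d₀).image Int.toNat)
  refine ⟨D + n + 2, by omega, fun a b ha => ?_⟩
  let F' := CohB1.tensorMod F (CohB1.tensorPow L a)
  let G := (Coh.push φ).obj F'
  have hGv : ∀ p : ℕ, p < n + 2 → ∀ d : ℤ, -(n : ℤ) - 2 ≤ d →
      Subsingleton (Coh.HH P ((twF d).obj G) (p + 1)) := by
    intro p hp d hd
    obtain ⟨e⟩ := AmpleDev.push_tensor_iso φ (TauNum.isInvertible_twist (k := k) (n := n) (a : ℤ)) F
    obtain ⟨e'⟩ : Nonempty (CohB1.tensorMod F ((Scheme.Modules.pullback φ).obj (Twist.twistProjSpace n k (a : ℤ))) ≅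
        F') := cl_eq_iff.1 (by
      rw [cl_tensor, cl_tensor, cl_tensorPow, ← hT a]
      rfl)
    obtain ⟨e''⟩ : Nonempty ((twF ((a : ℤ) + d)).obj ((Coh.push φ).obj F) ≅ (twF d).obj G) := by
      obtain ⟨t⟩ := twF_twF_iso (k := k) (n := n) ((Coh.push φ).obj F) (a : ℤ) d ((a : ℤ) + d) rfl
      exact ⟨t.symm ≪≫ (twF d).mapIso (e ≪≫ (Coh.push φ).mapIso e')⟩
    refine QCoh.subsingleton_HH_of_iso e'' _ (hd₀ p _ ?_)
    have h1 := hD _ (Finset.mem_image.2 ⟨_, Finset.mem_image.2 ⟨p, Finset.mem_range.2 hp, rfl⟩, rfl⟩)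
    have h2 := Int.self_le_toNat (d₀ p)
    omega
  let η := fun e : ℕ => (KFlatLib.unitShP (CohB1.toPMod F' ⊗ CohB1.toPMod (CohB1.tensorPow L e))).app (op ⊤)
  suffices h : ∀ (e : ℕ) (z : Γ(CohB1.tensorMod F' (CohB1.tensorPow L e), ⊤)), z ∈ Set.range (η e) from h b
  intro e
  induction e with
  | zero =>
    intro z
    obtain ⟨u, hu⟩ := (ConcreteCategory.bijective_of_isIso ((AmpleVan.twUnit.inv.app F').app ⊤)).2 z
    exact ⟨KFlatLib.tm u (show Γ(Coh.structureModule X, ⊤) from (1 : Γ(X, ⊤))),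
      (AmpleVan.unit_inv_app u).symm.trans hu⟩
  | succ e ih =>
    intro z
    let d : ℤ := (e : ℤ) + 1
    obtain ⟨θ⟩ : Nonempty (T d ≅ CohB1.tensorPow L (e + 1)) := cl_eq_iff.1 (by
      rw [cl_tensorPow, ← hT]; push_cast; rfl)
    obtain ⟨θ₀⟩ : Nonempty (T (d - 1) ≅ CohB1.tensorPow L e) := cl_eq_iff.1 (by
      rw [cl_tensorPow, ← hT]; simp [d])
    let S₀ := DCoh.tensorBi.obj F'
    let S : AddSubgroup Γ((twF (k := k) (n := n) d).obj G, ⊤) :=
      ((AddMonoidHom.range (η (e + 1)).hom.toAddMonoidHom).comap ((S₀.map θ.hom).app ⊤).hom).comap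
        ((projMod φ F' (Twist.twist (CohB1.polyGrading n k) d)).app ⊤).hom
    haveI := isIso_projMod_invertible φ F' (TauNum.isInvertible_twist (k := k) (n := n) d)
    have hS : ∀ j ∈ (Finset.univ : Finset (ULift.{u} (Fin (n + 1)))).toList, ∀ t,
        (ProjRegular.secTop P).map (ProjRegular.mulX (fun j => ProjRegular.coords_mem j) G j d) t ∈ S := by
      intro j _ t
      let y : Γ((DCoh.tensorBi.obj F').obj (T (d - 1)), ⊤) :=
        (projMod φ F' (Twist.twist (CohB1.polyGrading n k) (d - 1))).app ⊤ t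
      have hnat : (projMod φ F' (Twist.twist (CohB1.polyGrading n k) d)).app ⊤
          ((ProjRegular.mulX (fun j => ProjRegular.coords_mem j) G j d).app ⊤ t) = (S₀.map (x j d)).app ⊤ y :=
        congr(($(projMod_naturality_right φ F' (xHom (ProjRegular.coords_mem j) d))).app ⊤ t)
      let χ : CohB1.tensorPow L e ⟶ CohB1.tensorPow L (e + 1) := θ₀.inv ≫ x j d ≫ θ.hom
      obtain ⟨v, hv⟩ := ih ((S₀.map θ₀.hom).app ⊤ y)
      refine ⟨(CohB1.toPMod F' ◁ DCoh.toP.map χ).app (op ⊤) v, ?_⟩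
      have h1 : (η (e + 1)) ((CohB1.toPMod F' ◁ DCoh.toP.map χ).app (op ⊤) v) = (S₀.map χ).app ⊤ (η e v) :=
        congr(($(unitShP_naturality (DCoh.toP.obj F' ◁ DCoh.toP.map χ))).app (op ⊤) v)
      refine h1.trans ?_
      show (S₀.map χ).app ⊤ (η e v) = (S₀.map θ.hom).app ⊤ ((projMod φ F' _).app ⊤
        ((ProjRegular.mulX (fun j => ProjRegular.coords_mem j) G j d).app ⊤ t))
      rw [hv, hnat]
      have h2 : S₀.map θ₀.hom ≫ S₀.map χ = S₀.map (x j d) ≫ S₀.map θ.hom := by
        rw [← Functor.map_comp, ← Functor.map_comp]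
        congr 1
        exact θ₀.hom_inv_id_assoc _
      exact congr(($h2).app ⊤ y)
    haveI : IsIso ((projMod φ F' (Twist.twist (CohB1.polyGrading n k) d)).app ⊤) :=
      Scheme.Modules.Hom.isIso_iff_isIso_app.mp (isIso_projMod_invertible φ F' (TauNum.isInvertible_twist (k := k) (n := n) d)) ⊤
    obtain ⟨w₀, hw₀⟩ := (ConcreteCategory.bijective_of_isIso
      ((projMod φ F' (Twist.twist (CohB1.polyGrading n k) d)).app ⊤)).2 ((S₀.map θ.inv).app ⊤ z)
    let l := (Finset.univ : Finset (ULift.{u} (Fin (n + 1)))).toList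
    have hcov := ProjRegular.covered (fun j => ProjRegular.coords_mem (k := k) (n := n) j)
      ProjRegular.coords_cover (G := G)
    have hsurj := KoszulChop.surjective_dd_zero (ProjRegular.tw G) _ (ProjRegular.mulX_comm fun j =>
      ProjRegular.coords_mem (k := k) (n := n) j) l hcov d fun p => by
        by_cases hp : l.length < p + 2
        · exact Euler.subsingleton_HH_of_isZero (KoszulChop.isZero_obj _ l _ _ hp) _
        have hl : l.length = n + 1 := by simp [l]
        refine KoszulChop.subsingleton_HH_obj _ _ _ _ _ ?_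
        exact hGv p (by omega) _ (by simp only [d]; omega)
    haveI := KoszulChop.isIso_e0 (ProjRegular.tw G) l d
    obtain ⟨w, hw⟩ := hsurj ((inv (KoszulChop.e0 (ProjRegular.tw G) l d)).app ⊤ w₀)
    have hmem := KoszulChop.dd_zero_mem (ProjRegular.tw G) _ (ProjRegular.secTop P) l d S hS w
    have hval : (ProjRegular.secTop P).map (KoszulChop.dd (ProjRegular.tw G)
        (ProjRegular.mulX (fun j => ProjRegular.coords_mem (k := k) (n := n) j) G) l d 0 ≫
        KoszulChop.e0 (ProjRegular.tw G) l d) w = w₀ :=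
      (congrArg ((KoszulChop.e0 (ProjRegular.tw G) l d).app ⊤) hw).trans
        (congr(($(IsIso.inv_hom_id (KoszulChop.e0 (ProjRegular.tw G) l d))).app ⊤ w₀))
    rw [hval] at hmem
    obtain ⟨v, hv⟩ := hmem
    refine ⟨v, hv.trans ?_⟩
    show (S₀.map θ.hom).app ⊤ ((projMod φ F' _).app ⊤ w₀) = z
    rw [hw₀]
    have h3 : S₀.map θ.inv ≫ S₀.map θ.hom = 𝟙 _ := by rw [← Functor.map_comp, θ.inv_hom_id]; exact S₀.map_id _
    exact congr(($h3).app ⊤ z)

end Groth.Agent.MulSect
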